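import Cfsg.Agent.Lib.QP.G2A

/-!
# Relations in `G₂(K)` and normalisers of torus elements
-/

set_option autoImplicit false
set_option linter.unusedSectionVars false
set_option linter.unusedVariables false

namespace Cfsg.Agent.G2A

open Cfsg Cfsg.Lie

variable {K : Type*} [Field K]

/-- The Weyl element of the first `SL₂`. -/
noncomputable def wy : G2 K := k1 0 1 (-1) 0 (by ring)

theorem act_wy (x : Fin 8 → K) :
    act wy x = v8 (x 0) (x 2) (-x 1) (x 3) (x 5) (-x 4) (x 6) (x 7) := by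
  rw [wy, act_k1]
  apply vec_ext <;> simp only [k1F, v8c] <;> ring

theorem wy_dH (s t : Kˣ) : wy * dH (s, t) = dH (t, s) * wy := ext_act fun x => by
  simp only [act_mul, act_wy, act_dH]
  apply vec_ext <;> simp only [dF, v8c] <;> ring

theorem io_dH (s t : Kˣ) : io * dH (s, t) = dH (s⁻¹, t⁻¹) * io := ext_act fun x => by
  simp only [act_mul, act_io, act_dH]
  apply vec_ext <;> simp only [dF, iF, v8c, inv_inv] <;> ring

theorem ro_dH (s t : Kˣ) : ro * dH (s, t) = dH (s⁻¹ * t⁻¹, s) * ro := ext_act fun x => by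
  have hs := s.ne_zero
  have ht := t.ne_zero
  simp only [act_mul, act_ro, act_dH]
  apply vec_ext <;> simp only [dF, rF, v8c, mul_inv_rev, inv_inv, Units.val_mul,
    Units.val_inv_eq_inv_val] <;> field_simp

theorem wy_sq : (wy * wy : G2 K) = dH (-1, -1) := ext_act fun x => by
  simp only [act_mul, act_wy, act_dH]
  apply vec_ext <;> simp [dF, v8c]

theorem io_sq : (io * io : G2 K) = 1 := ext_act fun x => by
  rw [act_mul, act_io, act_io, iF_iF, act_one]

theorem io_wy : (io * wy : G2 K) = wy * io := ext_act fun x => by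
  simp only [act_mul, act_wy, act_io]
  apply vec_ext <;> simp only [iF, v8c, neg_neg]

theorem ro_io : (ro * io : G2 K) = io * ro := ext_act fun x => by
  simp only [act_mul, act_ro, act_io]
  apply vec_ext <;> simp only [iF, rF, v8c]

theorem k1_dH (p q r s : K) (h : p * s - q * r = 1) (t : Kˣ) :
    k1 p q r s h * dH (t, t) = dH (t, t) * k1 p q r s h := ext_act fun x => by
  simp only [act_mul, act_k1, act_dH]
  apply vec_ext <;> simp only [dF, k1F, v8c] <;> ring

theorem k1_wyio (p q r s : K) (h : p * s - q * r = 1) :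
    k1 p q r s h * (wy * io) = wy * io * k1 p q r s h := ext_act fun x => by
  simp only [act_mul, act_k1, act_wy, act_io]
  apply vec_ext <;> simp only [iF, k1F, v8c] <;> ring

theorem k2_dH (p q r s : K) (h : p * s - q * r = 1) (t : Kˣ) :
    k2 p q r s h * dH (t, t⁻¹) = dH (t, t⁻¹) * k2 p q r s h := ext_act fun x => by
  have ht := t.ne_zero
  simp only [act_mul, act_k2, act_dH]
  apply vec_ext <;> simp only [dF, k2F, v8c, inv_inv, Units.val_inv_eq_inv_val] <;> field_simp

theorem k2_wy (p q r s : K) (h : p * s - q * r = 1) :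
    k2 p q r s h * wy = wy * k2 p q r s h := ext_act fun x => by
  simp only [act_mul, act_k2, act_wy]
  apply vec_ext <;> simp only [k2F, v8c] <;> ring

section beta

variable {i : Kˣ} {c : K} (hi : (i : K) * i = -1) (hc : 2 * c = 1)
include hi

theorem inv_i : ((i⁻¹ : Kˣ) : K) = -i := by
  rw [Units.val_inv_eq_inv_val, inv_eq_iff_eq_inv, eq_comm, inv_eq_iff_eq_inv, eq_comm]
  exact inv_eq_of_mul_eq_one_right (by linear_combination -hi)

theorem act_D1 (x : Fin 8 → K) : act (dH (i, i⁻¹)) x = k1F (i : K) 0 0 (-i) x := by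
  rw [act_dH]
  apply vec_ext <;> simp only [dF, k1F, v8c, inv_inv, inv_i hi] <;> grind

theorem act_D2 (x : Fin 8 → K) : act (dH (i, i)) x = k2F (-i : K) 0 0 i x := by
  rw [act_dH]
  apply vec_ext <;> simp only [dF, k2F, v8c, inv_inv, inv_i hi] <;> grind

omit hi in
theorem act_J2 (x : Fin 8 → K) : act (wy * io) x = k2F 0 (-1) 1 0 x := by
  rw [act_mul, act_io, act_wy]
  apply vec_ext <;> simp only [iF, k2F, v8c] <;> ring

include hc

theorem exists_b1 : ∃ g : G2 K, g * wy = dH (i, i⁻¹) * g ∧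
    g * dH (i, i⁻¹) = wy * dH (i, i⁻¹) * g ∧ (∀ t, g * dH (t, t) = dH (t, t) * g) ∧
    g * (wy * io) = wy * io * g := by
  refine ⟨k1 (c * (1 + i)) (c * (1 - i)) (c * (-1 - i)) (c * (1 - i)) (by grind), ext_act fun x => ?_,
    ext_act fun x => ?_, k1_dH _ _ _ _ _, k1_wyio _ _ _ _ _⟩
  · simp only [act_mul, act_D1 hi, wy, act_k1, k1F_k1F]
    congr 1 <;> grind
  · simp only [act_mul, act_D1 hi, wy, act_k1, k1F_k1F]
    congr 1 <;> grind

theorem exists_b2 : ∃ g : G2 K, g * (wy * io) = dH (i, i) * g ∧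
    g * dH (i, i) = wy * io * dH (i, i) * g ∧ (∀ t, g * dH (t, t⁻¹) = dH (t, t⁻¹) * g) ∧
    g * wy = wy * g := by
  refine ⟨k2 (c * (1 - i)) (c * (-1 - i)) (c * (1 - i)) (c * (1 + i)) (by grind), ext_act fun x => ?_,
    ext_act fun x => ?_, k2_dH _ _ _ _ _, k2_wy _ _ _ _ _⟩
  · rw [act_mul, act_mul (dH _), act_J2, act_D2 hi, act_k2, act_k2, k2F_k2F, k2F_k2F]
    congr 1 <;> grind
  · rw [act_mul, act_mul (_ * _), act_mul (_ * _), act_J2, act_D2 hi, act_D2 hi, act_k2, act_k2,
      k2F_k2F, k2F_k2F, k2F_k2F]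
    congr 1 <;> grind

end beta

theorem eq_dH {g : G2 K} {p q c : K} (h0 : act g (e 0) = e 0) (h1 : act g (e 1) = p • e 1)
    (h2 : act g (e 2) = q • e 2) (h3 : act g (e 3) = c • e 3) : ∃ s t : Kˣ, g = dH (s, t) := by
  have hp : p ≠ 0 := fun h => act_e_ne_zero g 1 (by rw [h1, h, zero_smul])
  have hq : q ≠ 0 := fun h => act_e_ne_zero g 2 (by rw [h2, h, zero_smul])
  obtain ⟨m6, -, -, -, -, m0⟩ := e_mul (K := K)
  have h : act g (e 0) = zornMul (c • e 3) (zornMul (p • e 1) (q • e 2)) := by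
    rw [← m0, ← m6, act_zorn, act_zorn, h1, h2, h3]
  have h' := congrFun (h0.symm.trans h) 0
  simp only [zm, e_eq, Pi.smul_apply, v8c, smul_eq_mul] at h'
  refine ⟨Units.mk0 p hp, Units.mk0 q hq, ext3 ?_ ?_ ?_⟩
  · rw [h1, act_dH]
    apply vec_ext <;> simp [dF, e_eq, v8c]
  · rw [h2, act_dH]
    apply vec_ext <;> simp [dF, e_eq, v8c]
  · rw [h3, act_dH]
    apply vec_ext <;> simp [dF, e_eq, v8c]
    field_simp
    linear_combination -h'

theorem peirce {g : G2 K} (h0 : act g (e 0) = e 0) (h7 : act g (e 7) = e 7) {x : Fin 8 → K}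
    (hx : zornMul (e 0) x = x) (hx' : zornMul x (e 7) = x) :
    act g x 0 = 0 ∧ act g x 4 = 0 ∧ act g x 5 = 0 ∧ act g x 6 = 0 ∧ act g x 7 = 0 := by
  have e1 := congrArg (act g) hx
  have e2 := congrArg (act g) hx'
  rw [act_zorn, h0] at e1
  rw [act_zorn, h7] at e2
  have a0 := congrFun e2 0
  have a4 := congrFun e1 4
  have a5 := congrFun e1 5
  have a6 := congrFun e1 6
  have a7 := congrFun e1 7
  simp only [zm, e_eq, v8c] at a0 a4 a5 a6 a7
  refine ⟨?_, ?_, ?_, ?_, ?_⟩
  · linear_combination -a0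
  · linear_combination -a4
  · linear_combination -a5
  · linear_combination -a6
  · linear_combination -a7

/-- An element fixing `e₀, e₇`, centralizing `d(-1,-1)` and conjugating `d(μ,1)` into the torus
is monomial. -/
theorem monomial {g : G2 K} (h2 : (2 : K) ≠ 0) {μ s t : Kˣ} (hμ : μ ≠ 1)
    (h0 : act g (e 0) = e 0) (h7 : act g (e 7) = e 7) (hz : g * dH (-1, -1) = dH (-1, -1) * g)
    (ha : g * dH (μ, 1) = dH (s, t) * g) : ∃ s t : Kˣ, g = dH (s, t) ∨ wy * g = dH (s, t) := by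
  have hμ' : (μ : K) - 1 ≠ 0 := fun h => hμ (Units.ext (sub_eq_zero.1 h))
  have hP : ∀ j : Fin 8, j = 1 ∨ j = 2 ∨ j = 3 → act g (e j) 0 = 0 ∧ act g (e j) 4 = 0 ∧
      act g (e j) 5 = 0 ∧ act g (e j) 6 = 0 ∧ act g (e j) 7 = 0 := by
    rintro j (rfl | rfl | rfl) <;> refine peirce h0 h7 ?_ ?_ <;>
      simp only [e_eq, zorn_v8, v8_inj] <;> simp
  obtain ⟨a0, a4, a5, a6, a7⟩ := hP 1 (by simp)
  obtain ⟨b0, b4, b5, b6, b7⟩ := hP 2 (by simp)
  obtain ⟨c0, c4, c5, c6, c7⟩ := hP 3 (by simp)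
  have hz' : ∀ x, act g (dF (-1) (-1) x) = dF (-1) (-1) (act g x) := fun x => by
    rw [← act_dH, ← act_dH, ← act_mul, ← act_mul, hz]
  have ha' : ∀ x, act g (dF μ 1 x) = dF s t (act g x) := fun x => by
    rw [← act_dH, ← act_dH, ← act_mul, ← act_mul, ha]
  have z1 := hz' (e 1)
  have z2 := hz' (e 2)
  have z3 := hz' (e 3)
  have d1 := ha' (e 1)
  have d2 := ha' (e 2)
  rw [show dF (-1 : Kˣ) (-1) (e 1) = (-1 : K) • e 1 by apply vec_ext <;> simp [dF, e_eq, v8c],
    act_smul] at z1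
  rw [show dF (-1 : Kˣ) (-1) (e 2) = (-1 : K) • e 2 by apply vec_ext <;> simp [dF, e_eq, v8c],
    act_smul] at z2
  rw [show dF (-1 : Kˣ) (-1) (e 3) = e 3 by apply vec_ext <;> simp [dF, e_eq, v8c]] at z3
  rw [show dF μ 1 (e 1) = (μ : K) • e 1 by apply vec_ext <;> simp [dF, e_eq, v8c], act_smul] at d1
  rw [show dF μ 1 (e 2) = e 2 by apply vec_ext <;> simp [dF, e_eq, v8c]] at d2
  have a3 : act g (e 1) 3 = 0 := by
    have := congrFun z1 3
    simp [dF, v8c] at this
    exact (mul_eq_zero.1 (by linear_combination -this : 2 * act g (e 1) 3 = 0)).resolve_left h2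
  have b3 : act g (e 2) 3 = 0 := by
    have := congrFun z2 3
    simp [dF, v8c] at this
    exact (mul_eq_zero.1 (by linear_combination -this : 2 * act g (e 2) 3 = 0)).resolve_left h2
  have c1 : act g (e 3) 1 = 0 := by
    have := congrFun z3 1
    simp only [dF, v8c, Units.val_neg, Units.val_one] at this
    exact (mul_eq_zero.1 (by linear_combination this : 2 * act g (e 3) 1 = 0)).resolve_left h2
  have c2 : act g (e 3) 2 = 0 := by
    have := congrFun z3 2
    simp only [dF, v8c, Units.val_neg, Units.val_one] at this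
    exact (mul_eq_zero.1 (by linear_combination this : 2 * act g (e 3) 2 = 0)).resolve_left h2
  have p1 := congrFun d1 1
  have p2 := congrFun d1 2
  have q1 := congrFun d2 1
  have q2 := congrFun d2 2
  simp only [dF, v8c, Pi.smul_apply, smul_eq_mul] at p1 p2 q1 q2
  have n1 : act g (e 1) 1 = 0 → act g (e 1) 2 = 0 → False := fun u v =>
    act_e_ne_zero g 1 (vec_ext a0 u v a3 a4 a5 a6 a7)
  have n2 : act g (e 2) 1 = 0 → act g (e 2) 2 = 0 → False := fun u v =>
    act_e_ne_zero g 2 (vec_ext b0 u v b3 b4 b5 b6 b7)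
  have h3 : act g (e 3) = act g (e 3) 3 • e 3 := by
    apply vec_ext <;> simp [e_eq, v8c] <;> simp only [← e_eq] <;> assumption
  by_cases u : act g (e 1) 1 = 0
  · have v : act g (e 1) 2 ≠ 0 := n1 u
    have ht : (t : K) = μ := (mul_right_cancel₀ v p2).symm
    have w : act g (e 2) 2 = 0 := by
      rw [ht] at q2
      exact (mul_eq_zero.1 (by linear_combination -q2 : (μ - 1) * act g (e 2) 2 = 0)).resolve_left hμ'
    obtain ⟨s', t', h⟩ := eq_dH (g := wy * g) (p := act g (e 1) 2) (q := -act g (e 2) 1)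
      (c := act g (e 3) 3) (by rw [act_mul, h0, act_wy]; simp [e_eq, v8c])
      (by rw [act_mul, act_wy, a0, u, a3, a4, a5, a6, a7]; apply vec_ext <;> simp [e, v8c])
      (by rw [act_mul, act_wy, b0, w, b3, b4, b5, b6, b7]; apply vec_ext <;> simp [e, v8c])
      (by rw [act_mul, act_wy, c0, c1, c2, c4, c5, c6, c7]; apply vec_ext <;> simp [e, v8c])
    exact ⟨s', t', Or.inr h⟩
  · have hs : (s : K) = μ := (mul_right_cancel₀ u p1).symm
    have w : act g (e 2) 1 = 0 := by
      rw [hs] at q1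
      exact (mul_eq_zero.1 (by linear_combination -q1 : (μ - 1) * act g (e 2) 1 = 0)).resolve_left hμ'
    have w' : act g (e 2) 2 ≠ 0 := n2 w
    have ht : (t : K) = 1 := mul_right_cancel₀ w' (by rw [one_mul]; exact q2.symm)
    have v : act g (e 1) 2 = 0 := by
      rw [ht] at p2
      exact (mul_eq_zero.1 (by linear_combination p2 : (μ - 1) * act g (e 1) 2 = 0)).resolve_left hμ'
    obtain ⟨s', t', h⟩ := eq_dH (g := g) (p := act g (e 1) 1) (q := act g (e 2) 2)
      (c := act g (e 3) 3) h0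
      (by apply vec_ext <;> simp [a0, v, a3, a4, a5, a6, a7] <;> simp [e])
      (by apply vec_ext <;> simp [b0, w, b3, b4, b5, b6, b7] <;> simp [e]) h3
    exact ⟨s', t', Or.inl h⟩

/-- An element whose inverse conjugates `d(μ,1)` and `d(1,μ)` into the torus permutes `e₀, e₇`. -/
theorem idem {g : G2 K} {μ s t s' t' : Kˣ} (hμ : μ ≠ 1) (ha : dH (μ, 1) * g = g * dH (s, t))
    (hb : dH (1, μ) * g = g * dH (s', t')) :
    act g (e 0) = e 0 ∧ act g (e 7) = e 7 ∨ act g (e 0) = e 7 ∧ act g (e 7) = e 0 := by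
  have hμ' : (μ : K) - 1 ≠ 0 := fun h => hμ (Units.ext (sub_eq_zero.1 h))
  have hμ'' : ((μ⁻¹ : Kˣ) : K) - 1 ≠ 0 := fun h => hμ (inv_eq_one.1 (Units.ext (sub_eq_zero.1 h)))
  have key : ∀ x, (∀ s t : Kˣ, dF s t x = x) → act g x = v8 (act g x 0) 0 0 0 0 0 0 (act g x 7) := by
    intro x hx
    have e1 : dF μ 1 (act g x) = act g x := by rw [← act_dH, ← act_mul, ha, act_mul, act_dH, hx]
    have e2 : dF 1 μ (act g x) = act g x := by rw [← act_dH, ← act_mul, hb, act_mul, act_dH, hx]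
    have a1 := congrFun e1 1
    have a2 := congrFun e2 2
    have a3 := congrFun e1 3
    have a4 := congrFun e1 4
    have a5 := congrFun e2 5
    have a6 := congrFun e1 6
    simp only [dF, v8c, inv_one, Units.val_one, mul_one] at a1 a2 a3 a4 a5 a6
    refine vec_ext rfl ?_ ?_ ?_ ?_ ?_ ?_ rfl <;> simp only [v8c]
    · exact (mul_eq_zero.1 (by linear_combination a1)).resolve_left hμ'
    · exact (mul_eq_zero.1 (by linear_combination a2)).resolve_left hμ'
    · exact (mul_eq_zero.1 (by linear_combination a3)).resolve_left hμ''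
    · exact (mul_eq_zero.1 (by linear_combination a4)).resolve_left hμ''
    · exact (mul_eq_zero.1 (by linear_combination a5)).resolve_left hμ''
    · exact (mul_eq_zero.1 (by linear_combination a6)).resolve_left hμ'
  have k0 := key (e 0) fun s t => by apply vec_ext <;> simp [dF, e_eq, v8c]
  have k7 := key (e 7) fun s t => by apply vec_ext <;> simp [dF, e_eq, v8c]
  have m00 : zornMul (e 0) (e 0) = (e 0 : Fin 8 → K) := by simp only [e_eq, zorn_v8, v8_inj]; simp
  have m77 : zornMul (e 7) (e 7) = (e 7 : Fin 8 → K) := by simp only [e_eq, zorn_v8, v8_inj]; simp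
  have m07 : zornMul (e 0) (e 7) = (0 : Fin 8 → K) := by apply vec_ext <;> simp [e_eq, zm, v8c]
  have n0 := act_e_ne_zero g 0
  have n7 := act_e_ne_zero g 7
  have f00 := congrArg (act g) m00
  have f77 := congrArg (act g) m77
  have f07 := congrArg (act g) m07
  rw [act_zorn] at f00 f77 f07
  rw [act_zero] at f07
  generalize act g (e 0) 0 = α, act g (e 0) 7 = β at k0
  generalize act g (e 7) 0 = γ, act g (e 7) 7 = δ at k7
  rw [k0] at n0 f00 f07 ⊢
  rw [k7] at n7 f77 f07 ⊢
  have g0 := congrFun f07 0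
  have g7 := congrFun f07 7
  have hz : (0 : Fin 8 → K) = v8 0 0 0 0 0 0 0 0 := vec_ext rfl rfl rfl rfl rfl rfl rfl rfl
  simp only [hz, zorn_v8, v8_inj, v8c, e_eq, ne_eq, true_and] at g0 g7 f00 f77 n0 n7 ⊢
  grind

end Cfsg.Agent.G2A
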