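import Cfsg.Prelude.Def_G2

/-!
# The action of `G₂(K)` on the split octonions
-/

set_option autoImplicit false
set_option linter.unusedSectionVars false
set_option linter.unusedVariables false

namespace Cfsg.Agent.G2A

open Cfsg Cfsg.Lie
open scoped MatrixGroups Matrix

variable {K : Type*} [Field K]

theorem vec_ext {x y : Fin 8 → K} (h0 : x 0 = y 0) (h1 : x 1 = y 1) (h2 : x 2 = y 2)
    (h3 : x 3 = y 3) (h4 : x 4 = y 4) (h5 : x 5 = y 5) (h6 : x 6 = y 6) (h7 : x 7 = y 7) :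
    x = y := by
  funext i
  fin_cases i
  exacts [h0, h1, h2, h3, h4, h5, h6, h7]

theorem zm (x y : Fin 8 → K) :
    zornMul x y 0 = x 0 * y 0 + (x 1 * y 4 + x 2 * y 5 + x 3 * y 6) ∧
    zornMul x y 1 = x 0 * y 1 + y 7 * x 1 - (x 5 * y 6 - x 6 * y 5) ∧
    zornMul x y 2 = x 0 * y 2 + y 7 * x 2 - (x 6 * y 4 - x 4 * y 6) ∧
    zornMul x y 3 = x 0 * y 3 + y 7 * x 3 - (x 4 * y 5 - x 5 * y 4) ∧
    zornMul x y 4 = y 0 * x 4 + x 7 * y 4 + (x 2 * y 3 - x 3 * y 2) ∧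
    zornMul x y 5 = y 0 * x 5 + x 7 * y 5 + (x 3 * y 1 - x 1 * y 3) ∧
    zornMul x y 6 = y 0 * x 6 + x 7 * y 6 + (x 1 * y 2 - x 2 * y 1) ∧
    zornMul x y 7 = x 4 * y 1 + x 5 * y 2 + x 6 * y 3 + x 7 * y 7 :=
  ⟨rfl, rfl, rfl, rfl, rfl, rfl, rfl, rfl⟩

/-- A vector from its eight coordinates. -/
def v8 (a0 a1 a2 a3 a4 a5 a6 a7 : K) : Fin 8 → K := ![a0, a1, a2, a3, a4, a5, a6, a7]

theorem v8c (a0 a1 a2 a3 a4 a5 a6 a7 : K) :
    v8 a0 a1 a2 a3 a4 a5 a6 a7 0 = a0 ∧ v8 a0 a1 a2 a3 a4 a5 a6 a7 1 = a1 ∧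
    v8 a0 a1 a2 a3 a4 a5 a6 a7 2 = a2 ∧ v8 a0 a1 a2 a3 a4 a5 a6 a7 3 = a3 ∧
    v8 a0 a1 a2 a3 a4 a5 a6 a7 4 = a4 ∧ v8 a0 a1 a2 a3 a4 a5 a6 a7 5 = a5 ∧
    v8 a0 a1 a2 a3 a4 a5 a6 a7 6 = a6 ∧ v8 a0 a1 a2 a3 a4 a5 a6 a7 7 = a7 :=
  ⟨rfl, rfl, rfl, rfl, rfl, rfl, rfl, rfl⟩

theorem v8_eta (x : Fin 8 → K) : x = v8 (x 0) (x 1) (x 2) (x 3) (x 4) (x 5) (x 6) (x 7) :=
  vec_ext rfl rfl rfl rfl rfl rfl rfl rfl

theorem v8_inj {a0 a1 a2 a3 a4 a5 a6 a7 b0 b1 b2 b3 b4 b5 b6 b7 : K} :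
    v8 a0 a1 a2 a3 a4 a5 a6 a7 = v8 b0 b1 b2 b3 b4 b5 b6 b7 ↔ a0 = b0 ∧ a1 = b1 ∧ a2 = b2 ∧
      a3 = b3 ∧ a4 = b4 ∧ a5 = b5 ∧ a6 = b6 ∧ a7 = b7 :=
  ⟨fun h => ⟨congrFun h 0, congrFun h 1, congrFun h 2, congrFun h 3, congrFun h 4, congrFun h 5,
    congrFun h 6, congrFun h 7⟩, fun ⟨h0, h1, h2, h3, h4, h5, h6, h7⟩ =>
      vec_ext h0 h1 h2 h3 h4 h5 h6 h7⟩

theorem zorn_v8 (a0 a1 a2 a3 a4 a5 a6 a7 b0 b1 b2 b3 b4 b5 b6 b7 : K) :
    zornMul (v8 a0 a1 a2 a3 a4 a5 a6 a7) (v8 b0 b1 b2 b3 b4 b5 b6 b7) =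
      v8 (a0 * b0 + (a1 * b4 + a2 * b5 + a3 * b6)) (a0 * b1 + b7 * a1 - (a5 * b6 - a6 * b5))
        (a0 * b2 + b7 * a2 - (a6 * b4 - a4 * b6)) (a0 * b3 + b7 * a3 - (a4 * b5 - a5 * b4))
        (b0 * a4 + a7 * b4 + (a2 * b3 - a3 * b2)) (b0 * a5 + a7 * b5 + (a3 * b1 - a1 * b3))
        (b0 * a6 + a7 * b6 + (a1 * b2 - a2 * b1)) (a4 * b1 + a5 * b2 + a6 * b3 + a7 * b7) :=
  vec_ext rfl rfl rfl rfl rfl rfl rfl rfl

/-- The action of `G₂(K)` on the octonions. -/
def act (g : G2 K) (x : Fin 8 → K) : Fin 8 → K :=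
  (Units.coeHom (Matrix (Fin 8) (Fin 8) K) (g : GL (Fin 8) K)) *ᵥ x

theorem act_mul (g h : G2 K) (x : Fin 8 → K) : act (g * h) x = act g (act h x) := by
  unfold act
  rw [Subgroup.coe_mul, map_mul, Matrix.mulVec_mulVec]

theorem act_one (x : Fin 8 → K) : act (1 : G2 K) x = x := by
  unfold act
  rw [Subgroup.coe_one, map_one, Matrix.one_mulVec]

theorem act_inv_act (g : G2 K) (x : Fin 8 → K) : act g⁻¹ (act g x) = x := by
  rw [← act_mul, inv_mul_cancel, act_one]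

theorem act_act_inv (g : G2 K) (x : Fin 8 → K) : act g (act g⁻¹ x) = x := by
  rw [← act_mul, mul_inv_cancel, act_one]

theorem act_inj (g : G2 K) {x y : Fin 8 → K} (h : act g x = act g y) : x = y := by
  rw [← act_inv_act g x, h, act_inv_act]

theorem act_zorn (g : G2 K) (x y : Fin 8 → K) :
    act g (zornMul x y) = zornMul (act g x) (act g y) := g.2 x y

theorem act_add (g : G2 K) (x y : Fin 8 → K) : act g (x + y) = act g x + act g y :=
  Matrix.mulVec_add _ _ _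

theorem act_smul (g : G2 K) (c : K) (x : Fin 8 → K) : act g (c • x) = c • act g x :=
  Matrix.mulVec_smul _ _ _

theorem act_zero (g : G2 K) : act g 0 = 0 := Matrix.mulVec_zero _

theorem ext_act {g h : G2 K} (e : ∀ x, act g x = act h x) : g = h := by
  apply Subtype.ext
  apply Units.ext
  exact Matrix.mulVec_injective (funext e)

/-- An automorphism from a linear multiplicative map with an inverse. -/
noncomputable def mkA (f : (Fin 8 → K) → Fin 8 → K) (hl : IsLinearMap K f)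
    (hi : Function.Injective f) (hm : ∀ x y, f (zornMul x y) = zornMul (f x) (f y)) : G2 K :=
  ⟨Matrix.GeneralLinearGroup.mk'' (LinearMap.toMatrix' (hl.mk' f)) (by
      rw [← Matrix.isUnit_iff_isUnit_det, ← Matrix.mulVec_injective_iff_isUnit]
      intro x y h
      rw [LinearMap.toMatrix'_mulVec, LinearMap.toMatrix'_mulVec] at h
      exact hi h), by
    intro x y
    change LinearMap.toMatrix' (hl.mk' f) *ᵥ _ = zornMul (LinearMap.toMatrix' (hl.mk' f) *ᵥ _)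
      (LinearMap.toMatrix' (hl.mk' f) *ᵥ _)
    rw [LinearMap.toMatrix'_mulVec, LinearMap.toMatrix'_mulVec, LinearMap.toMatrix'_mulVec]
    exact hm x y⟩

theorem act_mkA (f : (Fin 8 → K) → Fin 8 → K) (hl : IsLinearMap K f)
    (hi : Function.Injective f) (hm : ∀ x y, f (zornMul x y) = zornMul (f x) (f y))
    (x : Fin 8 → K) : act (mkA f hl hi hm) x = f x := by
  change LinearMap.toMatrix' (hl.mk' f) *ᵥ _ = _
  rw [LinearMap.toMatrix'_mulVec]
  rfl

/-- The basis vectors. -/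
def e (i : Fin 8) : Fin 8 → K := Pi.single i 1

theorem e_eq : (e 0 : Fin 8 → K) = v8 1 0 0 0 0 0 0 0 ∧ (e 1 : Fin 8 → K) = v8 0 1 0 0 0 0 0 0 ∧
    (e 2 : Fin 8 → K) = v8 0 0 1 0 0 0 0 0 ∧ (e 3 : Fin 8 → K) = v8 0 0 0 1 0 0 0 0 ∧
    (e 4 : Fin 8 → K) = v8 0 0 0 0 1 0 0 0 ∧ (e 5 : Fin 8 → K) = v8 0 0 0 0 0 1 0 0 ∧
    (e 6 : Fin 8 → K) = v8 0 0 0 0 0 0 1 0 ∧ (e 7 : Fin 8 → K) = v8 0 0 0 0 0 0 0 1 := by
  refine ⟨?_, ?_, ?_, ?_, ?_, ?_, ?_, ?_⟩ <;> apply vec_ext <;> simp [e, v8c]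

theorem e_ne_zero (i : Fin 8) : (e i : Fin 8 → K) ≠ 0 := by
  intro h
  have := congrFun h i
  simp [e] at this

theorem act_e_ne_zero (g : G2 K) (i : Fin 8) : act g (e i) ≠ 0 := by
  intro h
  exact e_ne_zero i (act_inj g (h.trans (act_zero g).symm))

theorem e_mul : zornMul (e 1) (e 2) = (e 6 : Fin 8 → K) ∧ zornMul (e 2) (e 3) = (e 4 : Fin 8 → K) ∧
    zornMul (e 3) (e 1) = (e 5 : Fin 8 → K) ∧ zornMul (e 1) (e 4) = (e 0 : Fin 8 → K) ∧
    zornMul (e 4) (e 1) = (e 7 : Fin 8 → K) ∧ zornMul (e 3) (e 6) = (e 0 : Fin 8 → K) := by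
  simp only [e_eq, zorn_v8, v8_inj]
  simp

theorem ext_e {g h : G2 K} (he : ∀ i, act g (e i) = act h (e i)) : g = h := by
  apply Subtype.ext
  apply Units.ext
  ext i j
  have := congrFun (he j) i
  simpa [act, e, Matrix.mulVec_single_one] using this

/-- An automorphism is determined by the images of `e₁, e₂, e₃`. -/
theorem ext3 {g h : G2 K} (h1 : act g (e 1) = act h (e 1)) (h2 : act g (e 2) = act h (e 2))
    (h3 : act g (e 3) = act h (e 3)) : g = h := by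
  obtain ⟨m6, m4, m5, m0, m7, -⟩ := e_mul (K := K)
  have h4 : act g (e 4) = act h (e 4) := by rw [← m4, act_zorn, act_zorn, h2, h3]
  have h5 : act g (e 5) = act h (e 5) := by rw [← m5, act_zorn, act_zorn, h1, h3]
  have h6 : act g (e 6) = act h (e 6) := by rw [← m6, act_zorn, act_zorn, h1, h2]
  have h0 : act g (e 0) = act h (e 0) := by rw [← m0, act_zorn, act_zorn, h1, h4]
  have h7 : act g (e 7) = act h (e 7) := by rw [← m7, act_zorn, act_zorn, h1, h4]
  apply ext_e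
  intro i
  fin_cases i
  exacts [h0, h1, h2, h3, h4, h5, h6, h7]

/-! ### The torus -/

/-- The diagonal automorphism `diag(1, s, t, (st)⁻¹, s⁻¹, t⁻¹, st, 1)`. -/
def dF (s t : Kˣ) (x : Fin 8 → K) : Fin 8 → K :=
  v8 (x 0) (s * x 1) (t * x 2) ((s⁻¹ : Kˣ) * (t⁻¹ : Kˣ) * x 3) ((s⁻¹ : Kˣ) * x 4)
    ((t⁻¹ : Kˣ) * x 5) (s * t * x 6) (x 7)

theorem dF_dF (s t s' t' : Kˣ) (x : Fin 8 → K) : dF s t (dF s' t' x) = dF (s * s') (t * t') x := by
  apply vec_ext <;> simp only [dF, v8c, mul_inv_rev, Units.val_mul] <;> ring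

theorem dF_one (x : Fin 8 → K) : dF 1 1 x = x := by
  apply vec_ext <;> simp [dF, v8c]

/-- The torus element. -/
noncomputable def dd (s t : Kˣ) : G2 K :=
  mkA (dF s t)
    ⟨fun x y => by apply vec_ext <;> simp only [dF, v8c, Pi.add_apply] <;> ring,
      fun c x => by apply vec_ext <;> simp only [dF, v8c, Pi.smul_apply, smul_eq_mul] <;> ring⟩
    (Function.LeftInverse.injective (g := dF s⁻¹ t⁻¹) fun x => by
      rw [dF_dF, inv_mul_cancel, inv_mul_cancel, dF_one])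
    (fun x y => by
      have hs := s.ne_zero
      have ht := t.ne_zero
      apply vec_ext <;> simp only [dF, v8c, zm, Units.val_inv_eq_inv_val] <;> field_simp)

theorem act_dd (s t : Kˣ) (x : Fin 8 → K) : act (dd s t) x = dF s t x := act_mkA _ _ _ _ _

/-- The torus as a homomorphism. -/
noncomputable def dH : Kˣ × Kˣ →* G2 K where
  toFun p := dd p.1 p.2
  map_one' := ext_act fun x => by rw [act_dd, act_one]; exact dF_one x
  map_mul' p q := ext_act fun x => by rw [act_mul, act_dd, act_dd, act_dd, dF_dF]; rfl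

theorem act_dH (s t : Kˣ) (x : Fin 8 → K) : act (dH (s, t)) x = dF s t x := act_dd s t x

theorem dH_inj : Function.Injective (dH : Kˣ × Kˣ → G2 K) := by
  rintro ⟨s, t⟩ ⟨s', t'⟩ h
  have h1 := congrArg (fun g => act g (e 1) 1) h
  have h2 := congrArg (fun g => act g (e 2) 2) h
  simp only [act_dH, dF, e_eq, v8c, mul_one] at h1 h2
  rw [Units.ext h1, Units.ext h2]

/-! ### The first `SL₂` -/

/-- The long root `SL₂`, acting on the first two coordinates of `a`. -/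
def k1F (p q r s : K) (x : Fin 8 → K) : Fin 8 → K :=
  v8 (x 0) (p * x 1 + q * x 2) (r * x 1 + s * x 2) (x 3) (s * x 4 - r * x 5) (p * x 5 - q * x 4)
    (x 6) (x 7)

theorem k1F_k1F (p q r s p' q' r' s' : K) (x : Fin 8 → K) : k1F p q r s (k1F p' q' r' s' x) =
    k1F (p * p' + q * r') (p * q' + q * s') (r * p' + s * r') (r * q' + s * s') x := by
  apply vec_ext <;> simp only [k1F, v8c] <;> ring

/-- The long root `SL₂`. -/
noncomputable def k1 (p q r s : K) (h : p * s - q * r = 1) : G2 K :=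
  mkA (k1F p q r s)
    ⟨fun x y => by apply vec_ext <;> simp only [k1F, v8c, Pi.add_apply] <;> ring,
      fun c x => by apply vec_ext <;> simp only [k1F, v8c, Pi.smul_apply, smul_eq_mul] <;> ring⟩
    (Function.LeftInverse.injective (g := k1F s (-q) (-r) p) fun x => by
      apply vec_ext <;> simp only [k1F, v8c] <;> grind)
    (fun x y => by apply vec_ext <;> simp only [k1F, v8c, zm] <;> grind)

theorem act_k1 (p q r s : K) (h : p * s - q * r = 1) (x : Fin 8 → K) :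
    act (k1 p q r s h) x = k1F p q r s x := act_mkA _ _ _ _ _

/-! ### The second `SL₂` -/

/-- The short root `SL₂`. -/
def k2F (p q r s : K) (x : Fin 8 → K) : Fin 8 → K :=
  v8 ((p * x 0 + q * x 6) * s - (p * x 3 + q * x 7) * r) (s * x 1 - r * x 5) (s * x 2 + r * x 4)
    ((p * x 3 + q * x 7) * p - (p * x 0 + q * x 6) * q) (p * x 4 + q * x 2) (p * x 5 - q * x 1)
    ((r * x 0 + s * x 6) * s - (r * x 3 + s * x 7) * r)
    ((r * x 3 + s * x 7) * p - (r * x 0 + s * x 6) * q)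

theorem k2F_k2F (p q r s p' q' r' s' : K) (x : Fin 8 → K) : k2F p q r s (k2F p' q' r' s' x) =
    k2F (p * p' + q * r') (p * q' + q * s') (r * p' + s * r') (r * q' + s * s') x := by
  apply vec_ext <;> simp only [k2F, v8c] <;> ring

theorem k2F_one (x : Fin 8 → K) : k2F 1 0 0 1 x = x := by
  apply vec_ext <;> simp [k2F, v8c]

/-- The short root `SL₂`. -/
noncomputable def k2 (p q r s : K) (h : p * s - q * r = 1) : G2 K :=
  mkA (k2F p q r s)
    ⟨fun x y => by apply vec_ext <;> simp only [k2F, v8c, Pi.add_apply] <;> ring,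
      fun c x => by apply vec_ext <;> simp only [k2F, v8c, Pi.smul_apply, smul_eq_mul] <;> ring⟩
    (Function.LeftInverse.injective (g := k2F s (-q) (-r) p) fun x => by
      rw [k2F_k2F, show s * p + -q * r = 1 by linear_combination h,
        show s * q + -q * s = 0 by ring, show -r * p + p * r = 0 by ring,
        show -r * q + p * s = 1 by linear_combination h, k2F_one])
    (fun x y => by apply vec_ext <;> simp only [k2F, v8c, zm] <;> grind)

theorem act_k2 (p q r s : K) (h : p * s - q * r = 1) (x : Fin 8 → K) :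
    act (k2 p q r s h) x = k2F p q r s x := act_mkA _ _ _ _ _

/-! ### The graph involution and the cyclic permutation -/

/-- The inverse transpose. -/
def iF (x : Fin 8 → K) : Fin 8 → K :=
  v8 (x 7) (-x 4) (-x 5) (-x 6) (-x 1) (-x 2) (-x 3) (x 0)

theorem iF_iF (x : Fin 8 → K) : iF (iF x) = x := by
  apply vec_ext <;> simp only [iF, v8c, neg_neg]

/-- The inverse transpose. -/
noncomputable def io : G2 K :=
  mkA iF
    ⟨fun x y => by apply vec_ext <;> simp only [iF, v8c, Pi.add_apply] <;> ring,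
      fun c x => by apply vec_ext <;> simp only [iF, v8c, Pi.smul_apply, smul_eq_mul] <;> ring⟩
    (Function.LeftInverse.injective (g := iF) iF_iF)
    (fun x y => by apply vec_ext <;> simp only [iF, v8c, zm] <;> ring)

theorem act_io (x : Fin 8 → K) : act io x = iF x := act_mkA _ _ _ _ _

/-- The cyclic permutation `e₁ → e₂ → e₃ → e₁`. -/
def rF (x : Fin 8 → K) : Fin 8 → K :=
  v8 (x 0) (x 3) (x 1) (x 2) (x 6) (x 4) (x 5) (x 7)

/-- The cyclic permutation. -/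
noncomputable def ro : G2 K :=
  mkA rF
    ⟨fun x y => by apply vec_ext <;> simp only [rF, v8c, Pi.add_apply],
      fun c x => by apply vec_ext <;> simp only [rF, v8c, Pi.smul_apply]⟩
    (Function.LeftInverse.injective (g := fun x => rF (rF x)) fun x => by
      apply vec_ext <;> simp only [rF, v8c])
    (fun x y => by apply vec_ext <;> simp only [rF, v8c, zm] <;> ring)

theorem act_ro (x : Fin 8 → K) : act ro x = rF x := act_mkA _ _ _ _ _

end Cfsg.Agent.G2A
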